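import Cfsg.Agent.Lib.Grp.Suz.D0

set_option autoImplicit false
set_option maxRecDepth 100000
set_option Elab.async false

namespace Cfsg.Agent.CG.Suz

noncomputable def tabs : List ℕ := [t0,t1,t2,t3,t4,t5,t6,t7,t8,t9,t10,t11,t12,t13,t14,t15,t16,t17,t18,t19,t20,t21,t22,t23,t24,t25,t26,t27,t28,t29,t30,t31,t32,t33,t34,t35,t36,t37,t38,t39,t40,t41,t42,t43,t44,t45,t46,t47,t48,t49,t50,t51,t52,t53,t54,t55,t56,t57,t58,t59,t60,t61,t62,t63,t64,t65,t66,t67,t68,t69,t70,t71,t72,t73,t74,t75]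
noncomputable abbrev app : ℕ → ℕ → ℕ := appT tabs t76 0xffff
noncomputable def slpL : List (Bool × List ℕ) := [(false,[]),
  (false,[]),
  (false,[]),
  (false,[]),
  (false,[]),
  (false,[]),
  (false,[]),
  (false,[1,2,3,4,0,5,2]),
  (true,[7]),
  (false,[5]),
  (false,[7]),
  (true,[10]),
  (false,[7,6,1,8,2,8,9,6,1,3,4,8,9,7,4,3,1,6,9,7,2,7,1,6,8]),
  (false,[10,12,10,12,11,12,11]),
  (false,[13,11,13,10,13,11,13]),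
  (true,[14]),
  (false,[15,13,12,10,10,15,11]),
  (true,[16]),
  (false,[12,10,14,11,12,16,11,12,16,15,15,12,14]),
  (true,[18]),
  (false,[16,15,11,16,13,10,15,10,15,11,15,12]),
  (true,[20]),
  (false,[13,10,13,14,13,12,10,12,10,10,13]),
  (true,[22]),
  (false,[20,23,13,16,11,16,15,12,16,16,10,15,10,13]),
  (true,[24]),
  (false,[18,18,20,20,15,15,15,16,12,17,15,11,13,10,12,14]),
  (true,[26]),
  (false,[18,23,20,23,12,15,13,17,12,13,12,15,13,14,12,11,12]),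
  (true,[28]),
  (false,[25,29,18,23,19,22,13,12,16,13,17,13,12,13,12,10,15,16]),
  (true,[30]),
  (false,[26,19,21,18,21,13,16,13,12,13,17,12,14,12,13,17,14]),
  (true,[32]),
  (false,[30,30,32,32,27,27,25,29,19,23,21,21,13,10,15,12,11,13,11,13,11,11,13]),
  (true,[34]),
  (false,[35,31,32,31,32,27,27,25,29,22,19,23,18,12,10,16,15,13,17,10,14,13,12,10,16]),
  (true,[36]),
  (false,[35,35,35,33,31,33,25,18,20,20,18,17,11,17,13,12,14,12,17,12,14,16]),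
  (true,[38]),
  (false,[39,35,35,35,31,25,29,29,21,21,15,17,11,11,14,14,13,11,12,15,17,15]),
  (false,[37,31,29,24,18,21,21,21,16,12,13,12,16,15,10,13,12,13]),
  (false,[40,39,35,31,32,31,32,26,24,26,23,20,20,19,13,16,11,16,11,13,17,13,17,11,17,10]),
  (false,[41]),
  (false,[42]),
  (false,[40,42,41]),
  (false,[38,40]),
  (false,[34,34,34,36]),
  (false,[31,33,34,34,40]),
  (false,[28,28,25,31,33,33,35,38]),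
  (false,[18,20,19,23,27,25,26,26,32,31,32,35,35,35,36,42,41]),
  (false,[12,10,14,10,12,22,19,20,18,27,28,27,30,32,34,34]),
  (false,[26,28,26,33,31,33,34,41]),
  (false,[18,20,22,27,25,28,24,32,31,31,34,34,38,40,42,41]),
  (false,[18,18,18,26,29,33,35,36,41]),
  (false,[16,13,15,16,22,19,19,24,26,29,33,35,35,35,42]),
  (false,[13,17,17,20,20,23,20,27,25,27,33,30,32,31,40,42,41]),
  (false,[10,16,13,15,12,18,23,21,27,29,25,27,32,30,30,30,35,35,40,41]),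
  (true,[57]),
  (false,[12,14,12,23,20,22,21,27,29,24,31,32,35,38,40,42,41]),
  (true,[59]),
  (false,[19,22,22,20,25,28,24,24,32,35,35,38,40,42,41]),
  (true,[61]),
  (false,[20,18,25,28,24,24,33,35,38,40,42]),
  (true,[63]),
  (false,[24,32,31,35,36,40,41]),
  (true,[65]),
  (false,[25,28,25,33,30,35,42]),
  (true,[67]),
  (false,[30,32,31,31,34,40,42,41]),
  (true,[69]),
  (false,[30,36,40,41]),
  (true,[71]),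
  (false,[10,10]),
  (true,[73]),
  (false,[14,16,16,11,12,18,23,18,22,25,26,29,25,33,30,34,34,36,40,42])]
noncomputable def slp (a : ℕ) : Bool × List ℕ := nth slpL (false, []) a
noncomputable def invL : List ℕ := [0,1,2,3,4,5,6,8,7,9,11,10,12,13,15,14,17,16,19,18,21,20,23,22,25,24,27,26,29,28,31,30,33,32,35,34,37,36,39,38,40,41,42,43,44,45,46,47,48,49,50,51,52,53,54,55,56,58,57,60,59,62,61,64,63,66,65,68,67,70,69,72,71,74,73,75]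
noncomputable def inv (a : ℕ) : ℕ := nth invL 76 a
noncomputable def bs : List ℕ := [0,26480,28144,20256,28192,9712,18032,11968]
noncomputable def mc0 : Lvl := ⟨0, [10,11,12,13,14,15,16,17], 1782,
  fun i => look 0xffff mc0c (Nat.mul 16 i), fun i => look 0xfff mc0p (Nat.mul 12 i),
  fun i => look 255 mc0l (Nat.mul 8 i), fun i => look 255 mc0i (Nat.mul 8 i), fun x => look 0xffff mc0q x, 6⟩
noncomputable def mc1 : Lvl := ⟨26480, [18,19,20,21,22,23], 416,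
  fun i => look 0xffff mc1c (Nat.mul 16 i), fun i => look 0xfff mc1p (Nat.mul 12 i),
  fun i => look 255 mc1l (Nat.mul 8 i), fun i => look 255 mc1i (Nat.mul 8 i), fun x => look 0xffff mc1q x, 5⟩
noncomputable def mc2 : Lvl := ⟨28144, [24,25,26,27,28,29], 100,
  fun i => look 0xffff mc2c (Nat.mul 16 i), fun i => look 0xff mc2p (Nat.mul 8 i),
  fun i => look 255 mc2l (Nat.mul 8 i), fun i => look 255 mc2i (Nat.mul 8 i), fun x => look 0xffff mc2q x, 5⟩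
noncomputable def mc3 : Lvl := ⟨20256, [30,31,32,33], 36,
  fun i => look 0xffff mc3c (Nat.mul 16 i), fun i => look 0xff mc3p (Nat.mul 8 i),
  fun i => look 255 mc3l (Nat.mul 8 i), fun i => look 255 mc3i (Nat.mul 8 i), fun x => look 0xffff mc3q x, 4⟩
noncomputable def mc4 : Lvl := ⟨28192, [34,35], 7,
  fun i => look 0xffff mc4c (Nat.mul 16 i), fun i => look 0xf mc4p (Nat.mul 4 i),
  fun i => look 255 mc4l (Nat.mul 8 i), fun i => look 255 mc4i (Nat.mul 8 i), fun x => look 0xffff mc4q x, 3⟩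
noncomputable def mc5 : Lvl := ⟨9712, [36,37,38,39], 3,
  fun i => look 0xffff mc5c (Nat.mul 16 i), fun i => look 0xf mc5p (Nat.mul 4 i),
  fun i => look 255 mc5l (Nat.mul 8 i), fun i => look 255 mc5i (Nat.mul 8 i), fun x => look 0xffff mc5q x, 1⟩
noncomputable def mc6 : Lvl := ⟨18032, [40], 2,
  fun i => look 0xffff mc6c (Nat.mul 16 i), fun i => look 0xf mc6p (Nat.mul 4 i),
  fun i => look 255 mc6l (Nat.mul 8 i), fun i => look 255 mc6i (Nat.mul 8 i), fun x => look 0xffff mc6q x, 1⟩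
noncomputable def mc7 : Lvl := ⟨11968, [41,42], 4,
  fun i => look 0xffff mc7c (Nat.mul 16 i), fun i => look 0xf mc7p (Nat.mul 4 i),
  fun i => look 255 mc7l (Nat.mul 8 i), fun i => look 255 mc7i (Nat.mul 8 i), fun x => look 0xffff mc7q x, 2⟩
noncomputable def mc : List Lvl := [mc0, mc1, mc2, mc3, mc4, mc5, mc6, mc7]
noncomputable def tcR : List (List ℕ) := [[43,43],
  [44,44],
  [43,44,43,44],
  [45,45],
  [45,43,45,44],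
  [46,46],
  [46,45,46,45],
  [46,43,46,43,46,43],
  [46,43,44,46,43,44,45],
  [47,47],
  [47,44,47,44],
  [47,43,47,43,44],
  [47,45,47,45,47,45],
  [47,46,47,46,47,46],
  [48,48],
  [48,43,48,43],
  [48,44,48,43,44],
  [48,45,48,45,48,45],
  [48,46,48,46,48,46],
  [48,47,48,47,48,47],
  [48,47,45,47,48,43,45,47,45],
  [49,49],
  [49,43,49,43,49,43],
  [49,44,49,44,49,44],
  [49,45,49,45,49,45],
  [49,47,49,47,49,47],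
  [49,46,49,43,46,48,46,43],
  [49,47,48,43,46,47,49,43,47,48,45,46,47,48,46],
  [50,50],
  [50,44,50,44],
  [50,47,50,47],
  [50,46,50,46,50,46],
  [50,49,50,49,50,49],
  [48,49,48,49,48,49],
  [50,43,50,43,50,43,50,43],
  [50,48,45,48,43,50,43,45,48,45],
  [50,49,44,47,49,50,44,47,49,44,47,49],
  [46,50,46,44,47,46,50,47,44,46,44,47],
  [50,43,50,48,46,47,45,50,44,45,47,46,43,48],
  [50,43,50,46,44,47,46,43,50,45,46,43,47,46,43],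
  [50,43,48,50,48,49,45,50,46,47,45,46,48,46,49,43],
  [50,45,49,45,48,49,46,50,43,48,46,43,49,43,45,49],
  [48,44,50,48,50,43,48,50,48,50,48,43,50],
  [50,43,50,49,44,47,49,43,50,43,44,49,44,47,49,43],
  [51,51],
  [51,46,51,46,51,46],
  [51,49,51,49,51,49],
  [51,43,51,43,51,43,51,43],
  [51,43,51,48,51,43,51,48],
  [51,48,51,44,51,43,51,43,44],
  [51,48,51,46,51,45,51,46,48],
  [51,43,44,51,46,51,43,51,43,48,46],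
  [51,43,44,51,49,51,43,51,43,48,49],
  [51,43,47,48,51,47,43,51,46,43,48,46,44,47],
  [51,47,51,44,49,46,51,45,47,46,44,49,45,47,49,43],
  [51,46,44,47,51,45,46,43,47,48,46,43,47,45,49,43,45,49],
  [49,46,49,48,44,46,48,45,44,48,45],
  [51,48,46,49,43,47,49,51,48,46,49,43,47,49],
  [44,50,51,50,46,49,50,44,49,46,50,51,46,50,44,46],
  [43,47,51,45,51,49,51,45,51,47,43,51],
  [50,43,45,49,45,50,51,50,46,49,46,50,46,51]]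
noncomputable def tc0T : List ℕ := [0,0,0,0,0,0,0,0,0,0,0,0,0,0,0,0,0,0,0,0,0,0,0,0,0,0,0,0,0,0,0,0,0,0,0,0,0,0,0,0,0,0,0,tc0t43,tc0t44,tc0t45,tc0t46,tc0t47,tc0t48,tc0t49,tc0t50,tc0t51]
noncomputable def tc0r : Tr Rule := (.node (.node (.node (.node (.node (.node (.node (.node (.node (.leaf ⟨51,[51],44,1⟩) (.leaf ⟨49,[45,50,51,50,46,49,46,50,46,51,50,43,45],60,3⟩)) (.leaf ⟨45,[49,46,49,48,44,46,48,45,44,48],56,10⟩)) (.node (.leaf ⟨43,[51,48,51,43,51,48,51],48,5⟩) (.leaf ⟨49,[45,49,45,49,45],24,0⟩))) (.node (.node (.node (.leaf ⟨50,[44,50,44],29,2⟩) (.leaf ⟨45,[47,45,48,47,45,47,48,43],20,6⟩)) (.leaf ⟨47,[48,47,48,47,48],19,1⟩)) (.node (.leaf ⟨43,[44,51,49,51,43,51,43,48,49,51],52,1⟩) (.leaf ⟨47,[45,48,47,45,47,48,43,45],20,7⟩)))) (.node (.node (.node (.node (.leaf ⟨44,[47,44,47],10,3⟩) (.leaf ⟨50,[46,51,50,43,45,49,45,50,51,50,46,49,46],60,11⟩))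 (.leaf ⟨43,[49,43,49,43,49],22,3⟩)) (.node (.leaf ⟨46,[51,43,44,51,46,51,43,51,43,48],51,10⟩) (.leaf ⟨51,[43,51,43,51,43,51,43],47,6⟩))) (.node (.node (.leaf ⟨44,[47,44,47],10,1⟩) (.leaf ⟨49,[51,49,51,49,51],46,1⟩)) (.node (.leaf ⟨51,[48,51,44,51,43,51,43,44],49,0⟩) (.leaf ⟨50,[48,49,45,50,46,47,45,46,48,46,49,43,50,43,48],40,3⟩))))) (.node (.node (.node (.node (.node (.leaf ⟨50,[50],28,1⟩) (.leaf ⟨46,[51,50,43,45,49,45,50,51,50,46,49,46,50],60,12⟩)) (.leaf ⟨46,[49,48,44,46,48,45,44,48,45,49],56,1⟩)) (.node (.leaf ⟨51,[46,48,51,48,51,46,51,45],50,6⟩) (.leaf ⟨47,[48,47,48,47,48],19,3⟩))) (.node (.node (.leaf ⟨48,[44,48,43,44],16,0⟩) (.leaf ⟨51,[45,51,47,43,51,43,47,51,45,51,49],59,6⟩)) (.node (.leaf ⟨44,[43,44,43],2,1⟩) (.leaf ⟨48,[49,46,50,43,48,46,43,49,43,45,49,50,45,49,45],41,4⟩)))) (.node (.node (.node (.node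 (.leaf ⟨43,[44,43,44],2,0⟩) (.leaf ⟨50,[43,50,43,50,43,50,43],34,6⟩)) (.leaf ⟨45,[49,45,49,45,49],24,5⟩)) (.node (.leaf ⟨48,[46,51,43,44,51,46,51,43,51,43],51,9⟩) (.leaf ⟨45,[49,45,49,45,49],24,1⟩))) (.node (.node (.leaf ⟨46,[43,44,45,46,43,44],8,3⟩) (.leaf ⟨47,[43,51,46,43,48,46,44,47,51,43,47,48,51],53,5⟩)) (.node (.leaf ⟨47,[46,50,47,44,46,44,47,46,50,46,44],37,4⟩) (.leaf ⟨46,[47,45,50,44,45,47,46,43,48,50,43,50,48],38,4⟩)))))) (.node (.node (.node (.node (.node (.node (.leaf ⟨46,[46],5,1⟩) (.leaf ⟨48,[43,45,47,45,48,47,45,47],20,4⟩)) (.leaf ⟨48,[45,48,45,48,45],17,4⟩)) (.node (.leaf ⟨44,[51,48,51,44,51,43,51,43],49,8⟩) (.leaf ⟨49,[48,49,48,49,48],33,1⟩))) (.node (.node (.node (.leaf ⟨47,[46,47,46,47,46],13,4⟩) (.leaf ⟨49,[43,47,49,51,48,46,49,43,47,49,51,48,46],57,10⟩)) (.leaf ⟨46,[44,50,51,50,46,49,50,44,49,46,50,51,46,50,44],58,15⟩))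 (.node (.leaf ⟨46,[43,46,43,46,43],7,0⟩) (.leaf ⟨49,[50,49,44,47,49,50,44,47,49,44,47],36,11⟩)))) (.node (.node (.node (.node (.leaf ⟨44,[47,43,47,43],11,4⟩) (.leaf ⟨50,[43,48,50,48,50,48,43,50,48,44,50,48],42,4⟩)) (.leaf ⟨49,[43,49,43,49,43],22,2⟩)) (.node (.leaf ⟨45,[48,45,48,45,48],17,3⟩) (.leaf ⟨51,[43,51,48,51,43,51,48],48,4⟩))) (.node (.node (.leaf ⟨43,[50,43,50,43,50,43,50],34,5⟩) (.leaf ⟨51,[46,51,45,51,46,48,51,48],50,2⟩)) (.node (.leaf ⟨49,[43,46,48,46,43,49,46],26,2⟩) (.leaf ⟨47,[45,47,48,43,45,47,45,48],20,1⟩))))) (.node (.node (.node (.node (.node (.leaf ⟨43,[45,44,45],4,1⟩) (.leaf ⟨50,[46,50,46,50,46],31,0⟩)) (.leaf ⟨49,[48,49,48,49,48],33,5⟩)) (.node (.leaf ⟨51,[45,51,46,48,51,48,51,46],50,4⟩) (.leaf ⟨46,[47,46,47,46,47],13,1⟩))) (.node (.node (.leaf ⟨43,[47,43,44,47],11,1⟩) (.leaf ⟨49,[51,45,51,47,43,51,43,47,51,45,51],59,5⟩))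 (.node (.leaf ⟨51,[44,51,43,51,43,44,51,48],49,2⟩) (.leaf ⟨46,[50,46,50,46,50],31,3⟩)))) (.node (.node (.node (.node (.leaf ⟨48,[46,48,46,48,46],18,4⟩) (.leaf ⟨46,[50,46,50,46,50],31,1⟩)) (.leaf ⟨47,[45,47,45,47,45],12,2⟩)) (.node (.leaf ⟨51,[49,51,43,51,43,48,49,51,43,44],52,3⟩) (.leaf ⟨44,[50,44,50],29,1⟩))) (.node (.node (.leaf ⟨51,[49,51,49,51,49],46,4⟩) (.leaf ⟨43,[49,43,49,43,49],22,5⟩)) (.node (.leaf ⟨51,[43,51,43,44,51,48,51,44],49,4⟩) (.leaf ⟨44,[47,49,43,50,43,44,49,44,47,49,43,50,43,50,49],43,4⟩))))))) (.node (.node (.node (.node (.node (.node (.node (.leaf ⟨44,[44],1,1⟩) (.leaf ⟨50,[46,49,46,50,46,51,50,43,45,49,45,50,51],60,7⟩)) (.leaf ⟨48,[49,48,49,48,49],33,2⟩)) (.node (.leaf ⟨43,[51,43,44,51,48,51,44,51],49,5⟩) (.leaf ⟨48,[47,48,47,48,47],19,2⟩))) (.node (.node (.node (.leaf ⟨49,[45,49,45,49,45],24,4⟩)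 (.leaf ⟨43,[51,43,51,43,51,43,51],47,1⟩)) (.leaf ⟨45,[48,45,50,48,45,48,43,50,43],35,7⟩)) (.node (.leaf ⟨44,[49,46,51,45,47,46,44,49,45,47,49,43,51,47,51],54,3⟩) (.leaf ⟨49,[51,48,46,49,43,47,49,51,48,46,49,43,47],57,13⟩)))) (.node (.node (.node (.node (.leaf ⟨45,[44,45,43],4,2⟩) (.leaf ⟨43,[46,48,46,43,49,46,49],26,3⟩)) (.leaf ⟨47,[49,47,49,47,49],25,3⟩)) (.node (.leaf ⟨46,[43,44,46,43,44,45],8,0⟩) (.leaf ⟨51,[48,51,43,51,48,51,43],48,6⟩))) (.node (.node (.leaf ⟨44,[45,46,43,44,46,43],8,5⟩) (.leaf ⟨51,[49,51,49,51,49],46,2⟩)) (.node (.leaf ⟨43,[48,46,51,43,44,51,46,51,43,51],51,8⟩) (.leaf ⟨50,[43,48,50,48,49,45,50,46,47,45,46,48,46,49,43],40,0⟩))))) (.node (.node (.node (.node (.node (.leaf ⟨44,[45,43,45],4,3⟩) (.leaf ⟨49,[50,49,50,49,50],32,1⟩)) (.leaf ⟨51,[43,48,46,51,43,44,51,46,51,43],51,7⟩)) (.node (.leaf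 ⟨46,[48,51,48,51,46,51,45,51],50,7⟩) (.leaf ⟨48,[46,48,46,48,46],18,2⟩))) (.node (.node (.leaf ⟨49,[47,49,47,49,47],25,4⟩) (.leaf ⟨45,[51,47,43,51,43,47,51,45,51,49,51],59,7⟩)) (.node (.leaf ⟨45,[47,45,47,45,47],12,3⟩) (.leaf ⟨50,[43,44,49,44,47,49,43,50,43,50,49,44,47,49,43],43,8⟩)))) (.node (.node (.node (.node (.leaf ⟨49,[44,49,44,49,44],23,4⟩) (.leaf ⟨49,[44,47,49,50,44,47,49,44,47,49,50],36,1⟩)) (.leaf ⟨48,[49,51,43,44,51,49,51,43,51,43],52,9⟩)) (.node (.leaf ⟨43,[51,43,51,43,51,43,51],47,3⟩) (.leaf ⟨50,[46,50,46,50,46],31,2⟩))) (.node (.node (.leaf ⟨48,[45,48,45,48,45],17,0⟩) (.leaf ⟨49,[46,49,48,44,46,48,45,44,48,45],56,0⟩)) (.node (.leaf ⟨51,[43,44,51,46,51,43,51,43,48,46],51,0⟩) (.leaf ⟨50,[47,44,46,44,47,46,50,46,44,47,46],37,6⟩)))))) (.node (.node (.node (.node (.node (.node (.leaf ⟨48,[48],14,1⟩)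 (.leaf ⟨43,[50,43,50,43,50,43,50],34,3⟩)) (.leaf ⟨45,[48,45,48,45,48],17,1⟩)) (.node (.leaf ⟨48,[43,48,43],15,2⟩) (.leaf ⟨43,[49,43,49,43,49],22,1⟩))) (.node (.node (.node (.leaf ⟨47,[43,47,43,44],11,0⟩) (.leaf ⟨51,[44,49,46,51,45,47,46,44,49,45,47,49,43,51,47],54,2⟩)) (.leaf ⟨43,[47,46,43,50,43,50,46,44,47,46,43,50,45,46],39,11⟩)) (.node (.leaf ⟨43,[46,43,46,43,46],7,5⟩) (.leaf ⟨44,[47,49,50,44,47,49,44,47,49,50,49],36,2⟩)))) (.node (.node (.node (.node (.leaf ⟨49,[43,49,43,49,43],22,4⟩) (.leaf ⟨49,[44,47,49,50,49,44,47,49,50,44,47],36,8⟩)) (.leaf ⟨45,[46,43,44,46,43,44],8,6⟩)) (.node (.leaf ⟨51,[43,51,43,51,43,51,43],47,4⟩) (.leaf ⟨51,[48,51,43,51,48,51,43],48,2⟩))) (.node (.node (.leaf ⟨43,[49,46,49,43,46,48,46],26,7⟩) (.leaf ⟨51,[49,51,49,51,49],46,0⟩)) (.node (.leaf ⟨51,[46,43,48,46,44,47,51,43,47,48,51,47,43],53,7⟩)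 (.leaf ⟨45,[50,48,45,48,43,50,43,45,48],35,9⟩))))) (.node (.node (.node (.node (.node (.leaf ⟨45,[46,45,46],6,3⟩) (.leaf ⟨46,[49,46,50,46,51,50,43,45,49,45,50,51,50],60,8⟩)) (.leaf ⟨49,[44,49,44,49,44],23,2⟩)) (.node (.leaf ⟨45,[51,46,48,51,48,51,46,51],50,5⟩) (.leaf ⟨46,[51,46,51,46,51],45,1⟩))) (.node (.node (.leaf ⟨46,[47,46,47,46,47],13,5⟩) (.leaf ⟨51,[43,47,51,45,51,49,51,45,51,47,43],59,11⟩)) (.node (.leaf ⟨46,[51,46,51,46,51],45,5⟩) (.leaf ⟨50,[48,46,47,45,50,44,45,47,46,43,48,50,43],38,2⟩)))) (.node (.node (.node (.node (.leaf ⟨48,[47,48,47,48,47],19,4⟩) (.leaf ⟨43,[50,43,50,43,50,43,50],34,7⟩)) (.leaf ⟨43,[47,49,51,48,46,49,43,47,49,51,48,46,49],57,11⟩)) (.node (.leaf ⟨44,[49,44,49,44,49],23,3⟩) (.leaf ⟨50,[49,50,49,50,49],32,2⟩))) (.node (.node (.leaf ⟨46,[51,46,51,46,51],45,3⟩) (.leaf ⟨44,[49,44,49,44,49],23,5⟩))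 (.node (.leaf ⟨43,[47,48,51,47,43,51,46,43,48,46,44,47,51],53,1⟩) (.leaf ⟨49,[46,50,46,51,50,43,45,49,45,50,51,50,46],60,9⟩)))))))) (.node (.node (.node (.node (.node (.node (.node (.node (.leaf ⟨43,[43],0,1⟩) (.leaf ⟨51,[50,46,49,46,50,46,51,50,43,45,49,45,50],60,6⟩)) (.leaf ⟨48,[45,48,45,48,45],17,2⟩)) (.node (.leaf ⟨48,[51,43,51,48,51,43,51],48,3⟩) (.leaf ⟨47,[49,47,49,47,49],25,1⟩))) (.node (.node (.node (.leaf ⟨50,[47,50,47],30,2⟩) (.leaf ⟨43,[44,51,48,51,44,51,43,51],49,7⟩)) (.leaf ⟨46,[48,46,48,46,48],18,1⟩)) (.node (.leaf ⟨51,[47,43,51,46,43,48,46,44,47,51,43,47,48],53,4⟩) (.leaf ⟨44,[47,49,50,49,44,47,49,50,44,47,49],36,9⟩)))) (.node (.node (.node (.node (.leaf ⟨44,[43,44,43],2,3⟩) (.leaf ⟨48,[44,50,48,50,43,48,50,48,50,48,43,50],42,0⟩)) (.leaf ⟨43,[46,43,46,43,46],7,3⟩)) (.node (.leaf ⟨46,[45,46,45],6,2⟩)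 (.leaf ⟨51,[43,51,43,51,43,51,43],47,0⟩))) (.node (.node (.leaf ⟨48,[43,44,48,44],16,2⟩) (.leaf ⟨47,[48,47,48,47,48],19,5⟩)) (.node (.leaf ⟨48,[51,46,51,45,51,46,48,51],50,1⟩) (.leaf ⟨48,[45,48,43,50,43,45,48,45,50],35,1⟩))))) (.node (.node (.node (.node (.node (.leaf ⟨43,[44,43,44],2,2⟩) (.leaf ⟨50,[51,50,46,49,46,50,46,51,50,43,45,49,45],60,5⟩)) (.leaf ⟨49,[48,44,46,48,45,44,48,45,49,46],56,2⟩)) (.node (.leaf ⟨46,[51,45,51,46,48,51,48,51],50,3⟩) (.leaf ⟨47,[46,47,46,47,46],13,0⟩))) (.node (.node (.leaf ⟨45,[47,45,47,45,47],12,5⟩) (.leaf ⟨51,[49,51,45,51,47,43,51,43,47,51,45],59,4⟩)) (.node (.leaf ⟨51,[46,51,46,51,46],45,2⟩) (.leaf ⟨48,[50,48,49,45,50,46,47,45,46,48,46,49,43,50,43],40,2⟩)))) (.node (.node (.node (.node (.leaf ⟨48,[43,48,43],15,0⟩) (.leaf ⟨48,[46,47,45,50,44,45,47,46,43,48,50,43,50],38,3⟩)) (.leaf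 ⟨43,[51,43,51,43,51,43,51],47,7⟩)) (.node (.leaf ⟨43,[48,43,48],15,1⟩) (.leaf ⟨50,[48,45,48,43,50,43,45,48,45],35,0⟩))) (.node (.node (.leaf ⟨45,[48,47,45,47,48,43,45,47],20,8⟩) (.leaf ⟨47,[46,47,46,47,46],13,2⟩)) (.node (.leaf ⟨50,[47,50,47],30,0⟩) (.leaf ⟨46,[50,46,44,47,46,50,47,44,46,44,47],37,0⟩)))))) (.node (.node (.node (.node (.node (.node (.leaf ⟨47,[47],9,1⟩) (.leaf ⟨49,[50,49,50,49,50],32,5⟩)) (.leaf ⟨48,[43,50,43,45,48,45,50,48,45],35,3⟩)) (.node (.leaf ⟨48,[51,44,51,43,51,43,44,51],49,1⟩) (.leaf ⟨47,[49,47,49,47,49],25,5⟩))) (.node (.node (.node (.leaf ⟨43,[44,47,43,47],11,3⟩) (.leaf ⟨47,[49,51,48,46,49,43,47,49,51,48,46,49,43],57,12⟩)) (.leaf ⟨43,[44,45,46,43,44,46],8,4⟩)) (.node (.leaf ⟨44,[48,44,48,43],16,4⟩) (.leaf ⟨47,[49,50,44,47,49,44,47,49,50,49,44],36,3⟩)))) (.node (.node (.node (.node (.leaf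 ⟨44,[48,43,44,48],16,1⟩) (.leaf ⟨48,[50,43,50,48,46,47,45,50,44,45,47,46,43],38,13⟩)) (.leaf ⟨49,[51,43,44,51,49,51,43,51,43,48],52,10⟩)) (.node (.leaf ⟨45,[48,45,48,45,48],17,5⟩) (.leaf ⟨46,[48,46,43,49,46,49,43],26,4⟩))) (.node (.node (.leaf ⟨47,[44,47,44],10,2⟩) (.leaf ⟨49,[47,49,47,49,47],25,2⟩)) (.node (.leaf ⟨43,[51,48,51,43,51,48,51],48,1⟩) (.leaf ⟨50,[46,44,47,46,50,47,44,46,44,47,46],37,1⟩))))) (.node (.node (.node (.node (.node (.leaf ⟨44,[50,44,50],29,3⟩) (.leaf ⟨47,[45,50,44,45,47,46,43,48,50,43,50,48,46],38,5⟩)) (.leaf ⟨44,[49,44,49,44,49],23,1⟩)) (.node (.leaf ⟨46,[48,46,48,46,48],18,3⟩) (.leaf ⟨45,[47,45,47,45,47],12,1⟩))) (.node (.node (.leaf ⟨46,[43,46,43,46,43],7,4⟩) (.leaf ⟨45,[51,49,51,45,51,47,43,51,43,47,51],59,3⟩)) (.node (.leaf ⟨46,[43,46,43,46,43],7,2⟩) (.leaf ⟨43,[50,48,46,47,45,50,44,45,47,46,43,48,50],38,1⟩))))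 (.node (.node (.node (.node (.leaf ⟨50,[46,50,46,50,46],31,4⟩) (.leaf ⟨50,[43,50,43,50,43,50,43],34,2⟩)) (.leaf ⟨47,[51,44,49,46,51,45,47,46,44,49,45,47,49,43,51],54,1⟩)) (.node (.leaf ⟨51,[43,44,51,49,51,43,51,43,48,49],52,0⟩) (.leaf ⟨47,[50,47,50],30,1⟩))) (.node (.node (.leaf ⟨49,[51,49,51,49,51],46,3⟩) (.leaf ⟨49,[44,49,44,49,44],23,0⟩)) (.node (.leaf ⟨48,[51,48,51,46,51,45,51,46],50,8⟩) (.leaf ⟨46,[44,47,46,43,50,45,46,43,47,46,43,50,43,50],39,3⟩))))))) (.node (.node (.node (.node (.node (.node (.node (.leaf ⟨45,[45],3,1⟩) (.leaf ⟨50,[44,50,44],29,0⟩)) (.leaf ⟨45,[48,43,50,43,45,48,45,50,48],35,2⟩)) (.node (.leaf ⟨44,[51,43,51,43,44,51,48,51],49,3⟩) (.leaf ⟨49,[47,49,47,49,47],25,0⟩))) (.node (.node (.node (.leaf ⟨49,[48,49,48,49,48],33,3⟩) (.leaf ⟨43,[51,43,47,51,45,51,49,51,45,51,47],59,10⟩)) (.leaf ⟨46,[48,45,44,48,45,49,46,49,48,44],56,5⟩))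 (.node (.leaf ⟨44,[47,51,45,46,43,47,48,46,43,47,45,49,43,45,49,51,46],55,2⟩) (.leaf ⟨44,[47,46,50,47,44,46,44,47,46,50,46],37,3⟩)))) (.node (.node (.node (.node (.leaf ⟨45,[43,45,44],4,0⟩) (.leaf ⟨46,[50,47,44,46,44,47,46,50,46,44,47],37,5⟩)) (.leaf ⟨48,[49,48,49,48,49],33,4⟩)) (.node (.leaf ⟨45,[46,45,46],6,1⟩) (.leaf ⟨48,[46,48,46,48,46],18,0⟩))) (.node (.node (.leaf ⟨43,[44,46,43,44,45,46],8,1⟩) (.leaf ⟨48,[46,43,49,46,49,43,46],26,5⟩)) (.node (.leaf ⟨51,[46,51,46,51,46],45,0⟩) (.leaf ⟨46,[50,46,50,46,50],31,5⟩))))) (.node (.node (.node (.node (.node (.leaf ⟨43,[48,43,48],15,3⟩) (.leaf ⟨50,[43,50,48,46,47,45,50,44,45,47,46,43,48],38,0⟩)) (.leaf ⟨43,[51,43,48,49,51,43,44,51,49,51],52,6⟩)) (.node (.leaf ⟨51,[48,51,46,51,45,51,46,48],50,0⟩) (.leaf ⟨48,[49,48,49,48,49],33,0⟩))) (.node (.node (.leaf ⟨46,[48,46,48,46,48],18,5⟩)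 (.leaf ⟨47,[43,51,43,47,51,45,51,49,51,45,51],59,9⟩)) (.node (.leaf ⟨46,[47,46,47,46,47],13,3⟩) (.leaf ⟨50,[43,45,48,45,50,48,45,48,43],35,5⟩)))) (.node (.node (.node (.node (.leaf ⟨47,[45,47,45,47,45],12,4⟩) (.leaf ⟨50,[43,50,43,50,43,50,43],34,4⟩)) (.leaf ⟨47,[45,49,43,45,49,51,46,44,47,51,45,46,43,47,48,46,43],55,12⟩)) (.node (.leaf ⟨49,[51,43,51,43,48,49,51,43,44,51],52,4⟩) (.leaf ⟨49,[50,49,50,49,50],32,3⟩))) (.node (.node (.leaf ⟨51,[46,51,46,51,46],45,4⟩) (.leaf ⟨45,[49,45,49,45,49],24,3⟩)) (.node (.leaf ⟨51,[43,44,51,48,51,44,51,43],49,6⟩) (.leaf ⟨46,[44,47,46,50,47,44,46,44,47,46,50],37,2⟩)))))) (.node (.node (.node (.node (.node (.node (.leaf ⟨49,[49],21,1⟩) (.leaf ⟨43,[51,43,48,46,51,43,44,51,46,51],51,6⟩)) (.leaf ⟨48,[45,50,48,45,48,43,50,43,45],35,8⟩)) (.node (.leaf ⟨48,[51,43,51,48,51,43,51],48,7⟩)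 (.leaf ⟨47,[45,47,45,47,45],12,0⟩))) (.node (.node (.node (.leaf ⟨43,[44,48,44,48],16,3⟩) (.leaf ⟨43,[45,48,45,50,48,45,48,43,50],35,6⟩)) (.leaf ⟨43,[50,46,44,47,46,43,50,45,46,43,47,46,43,50],39,1⟩)) (.node (.leaf ⟨46,[45,46,45],6,0⟩) (.leaf ⟨44,[47,46,50,46,44,47,46,50,47,44,46],37,10⟩)))) (.node (.node (.node (.node (.leaf ⟨47,[44,47,44],10,0⟩) (.leaf ⟨48,[47,45,47,48,43,45,47,45],20,0⟩)) (.leaf ⟨49,[51,49,51,49,51],46,5⟩)) (.node (.leaf ⟨46,[49,43,46,48,46,43,49],26,1⟩) (.leaf ⟨51,[43,51,43,51,43,51,43],47,2⟩))) (.node (.node (.leaf ⟨44,[46,43,44,45,46,43],8,2⟩) (.leaf ⟨51,[43,51,48,51,43,51,48],48,0⟩)) (.node (.leaf ⟨51,[43,47,48,51,47,43,51,46,43,48,46,44,47],53,0⟩) (.leaf ⟨43,[50,43,45,48,45,50,48,45,48],35,4⟩))))) (.node (.node (.node (.node (.node (.leaf ⟨47,[50,47,50],30,3⟩) (.leaf ⟨50,[43,45,49,45,50,51,50,46,49,46,50,46,51],60,0⟩))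 (.leaf ⟨49,[45,49,45,49,45],24,2⟩)) (.node (.leaf ⟨46,[51,43,51,43,48,46,51,43,44,51],51,4⟩) (.leaf ⟨43,[46,43,46,43,46],7,1⟩))) (.node (.node (.leaf ⟨47,[43,44,47,43],11,2⟩) (.leaf ⟨47,[51,45,51,49,51,45,51,47,43,51,43],59,1⟩)) (.node (.leaf ⟨49,[46,49,43,46,48,46,43],26,0⟩) (.leaf ⟨50,[44,47,49,44,47,49,50,49,44,47,49],36,5⟩)))) (.node (.node (.node (.node (.leaf ⟨50,[49,50,49,50,49],32,4⟩) (.leaf ⟨50,[49,50,49,50,49],32,0⟩)) (.leaf ⟨44,[46,48,45,44,48,45,49,46,49,48],56,4⟩)) (.node (.leaf ⟨44,[51,49,51,43,51,43,48,49,51,43],52,2⟩) (.leaf ⟨46,[43,49,46,49,43,46,48],26,6⟩))) (.node (.node (.leaf ⟨43,[51,43,51,43,51,43,51],47,5⟩) (.leaf ⟨49,[43,49,43,49,43],22,0⟩)) (.node (.leaf ⟨48,[47,48,47,48,47],19,0⟩) (.leaf ⟨51,[50,43,45,49,45,50,51,50,46,49,46,50,46],60,13⟩)))))))))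
noncomputable def tc0 : TCL := ⟨[43,44,45,46,47,48,49,50,51], [43,44,45,46,47,48,49,50], 1782, 36, 0xffff, 16, 0x1ff,
  fun a x => look 0xfffffffff (nth tc0T 0 a) x, fun x => look 0xfffffffff tc0d x, tc0r⟩
noncomputable def tc1T : List ℕ := [0,0,0,0,0,0,0,0,0,0,0,0,0,0,0,0,0,0,0,0,0,0,0,0,0,0,0,0,0,0,0,0,0,0,0,0,0,0,0,0,0,0,0,tc1t43,tc1t44,tc1t45,tc1t46,tc1t47,tc1t48,tc1t49,tc1t50]
noncomputable def tc1r : Tr Rule := (.node (.node (.node (.node (.node (.node (.node (.node (.leaf ⟨50,[50],28,1⟩) (.leaf ⟨46,[47,46,47,46,47],13,5⟩)) (.leaf ⟨49,[46,49,43,46,48,46,43],26,0⟩)) (.node (.node (.leaf ⟨48,[43,48,43],15,2⟩) (.leaf ⟨48,[47,48,47,48,47],19,2⟩)) (.leaf ⟨48,[46,43,49,46,49,43,46],26,5⟩))) (.node (.node (.node (.leaf ⟨49,[45,49,45,49,45],24,4⟩) (.leaf ⟨50,[44,50,44],29,0⟩)) (.leaf ⟨47,[46,47,46,47,46],13,0⟩))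 (.node (.leaf ⟨47,[43,47,43,44],11,0⟩) (.leaf ⟨48,[45,48,45,48,45],17,0⟩)))) (.node (.node (.node (.node (.leaf ⟨44,[45,43,45],4,3⟩) (.leaf ⟨49,[43,49,43,49,43],22,0⟩)) (.leaf ⟨46,[49,43,46,48,46,43,49],26,1⟩)) (.node (.leaf ⟨43,[44,46,43,44,45,46],8,1⟩) (.leaf ⟨49,[45,49,45,49,45],24,0⟩))) (.node (.node (.node (.leaf ⟨44,[47,43,47,43],11,4⟩) (.leaf ⟨50,[46,50,46,50,46],31,0⟩)) (.leaf ⟨48,[49,46,50,43,48,46,43,49,43,45,49,50,45,49,45],41,4⟩)) (.node (.leaf ⟨49,[48,49,48,49,48],33,3⟩) (.leaf ⟨50,[48,50,48,43,50,48,44,50,48,50,43,48],42,7⟩))))) (.node (.node (.node (.node (.node (.leaf ⟨48,[48],14,1⟩) (.leaf ⟨47,[44,47,44],10,2⟩)) (.leaf ⟨45,[47,45,48,47,45,47,48,43],20,6⟩)) (.node (.node (.leaf ⟨44,[43,44,43],2,3⟩) (.leaf ⟨45,[46,43,44,46,43,44],8,6⟩)) (.leaf ⟨43,[46,43,46,43,46],7,3⟩))) (.node (.node (.node (.leaf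 ⟨44,[48,43,44,48],16,1⟩) (.leaf ⟨50,[47,50,47],30,2⟩)) (.leaf ⟨45,[49,45,49,45,49],24,5⟩)) (.node (.leaf ⟨50,[49,50,49,50,49],32,4⟩) (.leaf ⟨49,[45,49,45,49,45],24,2⟩)))) (.node (.node (.node (.node (.leaf ⟨43,[44,43,44],2,2⟩) (.leaf ⟨47,[45,47,45,47,45],12,2⟩)) (.leaf ⟨44,[47,46,43,50,45,46,43,47,46,43,50,43,50,46],39,4⟩)) (.node (.leaf ⟨47,[50,47,50],30,3⟩) (.leaf ⟨46,[50,46,50,46,50],31,5⟩))) (.node (.node (.node (.leaf ⟨44,[49,44,49,44,49],23,5⟩) (.leaf ⟨48,[47,48,47,48,47],19,0⟩)) (.leaf ⟨49,[48,49,48,49,48],33,5⟩)) (.node (.leaf ⟨45,[48,43,50,43,45,48,45,50,48],35,2⟩) (.leaf ⟨47,[49,43,50,43,50,49,44,47,49,43,50,43,44,49,44],43,13⟩)))))) (.node (.node (.node (.node (.node (.node (.leaf ⟨45,[45],3,1⟩) (.leaf ⟨50,[49,50,49,50,49],32,2⟩)) (.leaf ⟨46,[43,44,46,43,44,45],8,0⟩)) (.node (.node (.leaf ⟨46,[43,44,45,46,43,44],8,3⟩)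 (.leaf ⟨49,[50,49,50,49,50],32,1⟩)) (.leaf ⟨43,[50,43,50,43,50,43,50],34,7⟩))) (.node (.node (.node (.leaf ⟨49,[47,49,47,49,47],25,4⟩) (.leaf ⟨47,[45,47,45,47,45],12,4⟩)) (.leaf ⟨43,[50,48,46,47,45,50,44,45,47,46,43,48,50],38,1⟩)) (.node (.leaf ⟨50,[46,50,46,50,46],31,4⟩) (.leaf ⟨44,[49,44,49,44,49],23,1⟩)))) (.node (.node (.node (.node (.leaf ⟨45,[46,45,46],6,3⟩) (.leaf ⟨47,[49,47,49,47,49],25,5⟩)) (.leaf ⟨46,[43,48,50,43,50,48,46,47,45,50,44,45,47],38,11⟩)) (.node (.leaf ⟨46,[43,46,43,46,43],7,2⟩) (.leaf ⟨45,[48,45,48,45,48],17,5⟩))) (.node (.node (.node (.leaf ⟨48,[43,44,48,44],16,2⟩) (.leaf ⟨50,[46,50,46,50,46],31,2⟩)) (.leaf ⟨49,[44,49,44,49,44],23,2⟩)) (.node (.leaf ⟨50,[43,50,43,50,43,50,43],34,4⟩) (.leaf ⟨50,[48,45,48,43,50,43,45,48,45],35,0⟩))))) (.node (.node (.node (.node (.node (.leaf ⟨47,[47],9,1⟩)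 (.leaf ⟨47,[46,47,46,47,46],13,4⟩)) (.leaf ⟨47,[46,50,47,44,46,44,47,46,50,46,44],37,4⟩)) (.node (.node (.leaf ⟨43,[49,43,49,43,49],22,3⟩) (.leaf ⟨46,[48,46,43,49,46,49,43],26,4⟩)) (.leaf ⟨49,[43,49,43,49,43],22,2⟩))) (.node (.node (.node (.leaf ⟨48,[45,48,45,48,45],17,4⟩) (.leaf ⟨47,[45,47,45,47,45],12,0⟩)) (.leaf ⟨45,[43,45,44],4,0⟩)) (.node (.leaf ⟨46,[50,46,50,46,50],31,3⟩) (.leaf ⟨45,[47,48,43,45,47,45,48,47],20,2⟩)))) (.node (.node (.node (.node (.leaf ⟨46,[43,46,43,46,43],7,4⟩) (.leaf ⟨49,[47,49,47,49,47],25,2⟩)) (.leaf ⟨43,[50,46,44,47,46,43,50,45,46,43,47,46,43,50],39,1⟩)) (.node (.leaf ⟨45,[47,45,47,45,47],12,3⟩) (.leaf ⟨49,[44,49,44,49,44],23,0⟩))) (.node (.node (.node (.leaf ⟨43,[49,46,49,43,46,48,46],26,7⟩) (.leaf ⟨50,[49,50,49,50,49],32,0⟩)) (.leaf ⟨48,[44,48,43,44],16,0⟩)) (.node (.leaf ⟨46,[48,46,48,46,48],18,3⟩)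 (.leaf ⟨47,[49,43,50,43,44,49,44,47,49,43,50,43,50,49,44],43,5⟩))))))) (.node (.node (.node (.node (.node (.node (.node (.leaf ⟨43,[43],0,1⟩) (.leaf ⟨47,[49,47,49,47,49],25,1⟩)) (.leaf ⟨44,[46,43,44,45,46,43],8,2⟩)) (.node (.node (.leaf ⟨49,[43,46,48,46,43,49,46],26,2⟩) (.leaf ⟨47,[50,47,50],30,1⟩)) (.leaf ⟨45,[48,45,48,45,48],17,3⟩))) (.node (.node (.node (.leaf ⟨48,[46,48,46,48,46],18,4⟩) (.leaf ⟨50,[47,50,47],30,0⟩)) (.leaf ⟨47,[45,48,47,45,47,48,43,45],20,7⟩)) (.node (.leaf ⟨46,[47,46,47,46,47],13,3⟩) (.leaf ⟨48,[46,48,46,48,46],18,2⟩)))) (.node (.node (.node (.node (.leaf ⟨43,[48,43,48],15,3⟩) (.leaf ⟨47,[48,47,48,47,48],19,5⟩)) (.leaf ⟨46,[47,45,50,44,45,47,46,43,48,50,43,50,48],38,4⟩)) (.node (.leaf ⟨45,[44,45,43],4,2⟩) (.leaf ⟨48,[49,48,49,48,49],33,0⟩))) (.node (.node (.node (.leaf ⟨47,[44,47,44],10,0⟩)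 (.leaf ⟨49,[47,49,47,49,47],25,0⟩)) (.leaf ⟨43,[48,43,48],15,1⟩)) (.node (.leaf ⟨43,[50,43,50,43,50,43,50],34,5⟩) (.leaf ⟨50,[48,43,50,48,44,50,48,50,43,48,50,48],42,9⟩))))) (.node (.node (.node (.node (.node (.leaf ⟨49,[49],21,1⟩) (.leaf ⟨46,[43,46,43,46,43],7,0⟩)) (.leaf ⟨47,[49,50,49,44,47,49,50,44,47,49,44],36,10⟩)) (.node (.node (.leaf ⟨44,[48,44,48,43],16,4⟩) (.leaf ⟨43,[50,43,50,43,50,43,50],34,1⟩)) (.leaf ⟨43,[46,43,46,43,46],7,1⟩))) (.node (.node (.node (.leaf ⟨43,[44,43,44],2,0⟩) (.leaf ⟨43,[49,43,49,43,49],22,1⟩)) (.leaf ⟨43,[44,48,44,48],16,3⟩)) (.node (.leaf ⟨49,[50,49,50,49,50],32,3⟩) (.leaf ⟨49,[48,49,48,49,48],33,1⟩)))) (.node (.node (.node (.node (.leaf ⟨43,[45,44,45],4,1⟩) (.leaf ⟨48,[49,48,49,48,49],33,2⟩)) (.leaf ⟨47,[46,43,50,43,50,46,44,47,46,43,50,45,46,43],39,12⟩)) (.node (.leaf ⟨47,[43,44,47,43],11,2⟩)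 (.leaf ⟨49,[50,49,50,49,50],32,5⟩))) (.node (.node (.node (.leaf ⟨43,[44,47,43,47],11,3⟩) (.leaf ⟨44,[50,44,50],29,1⟩)) (.leaf ⟨45,[49,45,49,45,49],24,3⟩)) (.node (.leaf ⟨50,[43,45,48,45,50,48,45,48,43],35,5⟩) (.leaf ⟨44,[47,49,43,50,43,44,49,44,47,49,43,50,43,50,49],43,4⟩)))))) (.node (.node (.node (.node (.node (.node (.leaf ⟨46,[46],5,1⟩) (.leaf ⟨45,[47,45,47,45,47],12,5⟩)) (.leaf ⟨45,[48,47,45,47,48,43,45,47],20,8⟩)) (.node (.node (.leaf ⟨44,[50,44,50],29,3⟩) (.leaf ⟨43,[50,43,50,43,50,43,50],34,3⟩)) (.leaf ⟨46,[48,46,48,46,48],18,1⟩))) (.node (.node (.node (.leaf ⟨49,[44,49,44,49,44],23,4⟩) (.leaf ⟨44,[43,44,43],2,1⟩)) (.leaf ⟨48,[49,45,50,46,47,45,46,48,46,49,43,50,43,48,50],40,4⟩)) (.node (.leaf ⟨50,[44,50,44],29,2⟩) (.leaf ⟨48,[45,48,45,48,45],17,2⟩)))) (.node (.node (.node (.node (.leaf ⟨44,[47,44,47],10,3⟩)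 (.leaf ⟨44,[47,44,47],10,1⟩)) (.leaf ⟨46,[43,47,46,43,50,43,50,46,44,47,46,43,50,45],39,10⟩)) (.node (.leaf ⟨46,[45,46,45],6,2⟩) (.leaf ⟨46,[48,46,48,46,48],18,5⟩))) (.node (.node (.node (.leaf ⟨43,[47,43,44,47],11,1⟩) (.leaf ⟨46,[47,46,47,46,47],13,1⟩)) (.leaf ⟨48,[49,48,49,48,49],33,4⟩)) (.node (.leaf ⟨48,[45,50,48,45,48,43,50,43,45],35,8⟩) (.leaf ⟨44,[47,49,43,50,43,50,49,44,47,49,43,50,43,44,49],43,12⟩))))) (.node (.node (.node (.node (.node (.leaf ⟨44,[44],1,1⟩) (.leaf ⟨47,[49,47,49,47,49],25,3⟩)) (.leaf ⟨47,[44,46,44,47,46,50,46,44,47,46,50],37,7⟩)) (.node (.leaf ⟨44,[45,46,43,44,46,43],8,5⟩) (.leaf ⟨46,[45,46,45],6,0⟩))) (.node (.node (.node (.leaf ⟨48,[43,48,43],15,0⟩) (.leaf ⟨47,[48,47,48,47,48],19,1⟩)) (.leaf ⟨49,[43,45,49,50,45,49,45,48,49,46,50,43,48,46,43],41,12⟩)) (.node (.leaf ⟨44,[49,44,49,44,49],23,3⟩)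 (.leaf ⟨43,[45,49,50,45,49,45,48,49,46,50,43,48,46,43,49],41,13⟩)))) (.node (.node (.node (.node (.leaf ⟨49,[43,49,43,49,43],22,4⟩) (.leaf ⟨45,[49,45,49,45,49],24,1⟩)) (.leaf ⟨45,[46,45,46],6,1⟩)) (.node (.leaf ⟨48,[47,48,47,48,47],19,4⟩) (.leaf ⟨46,[43,49,46,49,43,46,48],26,6⟩))) (.node (.node (.node (.leaf ⟨43,[46,48,46,43,49,46,49],26,3⟩) (.leaf ⟨46,[50,46,50,46,50],31,1⟩)) (.leaf ⟨43,[49,43,49,43,49],22,5⟩)) (.node (.leaf ⟨47,[48,47,48,47,48],19,3⟩) (.leaf ⟨47,[46,47,46,47,46],13,2⟩))))))))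
noncomputable def tc1 : TCL := ⟨[43,44,45,46,47,48,49,50], [43,44,45,46,47,48,49], 416, 32, 0x3fff, 14, 0xff,
  fun a x => look 0xffffffff (nth tc1T 0 a) x, fun x => look 0xffffffff tc1d x, tc1r⟩
noncomputable def tc2T : List ℕ := [0,0,0,0,0,0,0,0,0,0,0,0,0,0,0,0,0,0,0,0,0,0,0,0,0,0,0,0,0,0,0,0,0,0,0,0,0,0,0,0,0,0,0,tc2t43,tc2t44,tc2t45,tc2t46,tc2t47,tc2t48,tc2t49]
noncomputable def tc2r : Tr Rule := (.node (.node (.node (.node (.node (.node (.node (.leaf ⟨49,[49],21,1⟩) (.leaf ⟨46,[43,49,46,49,43,46,48],26,6⟩)) (.node (.leaf ⟨48,[45,48,45,48,45],17,4⟩) (.leaf ⟨43,[46,48,46,43,49,46,49],26,3⟩))) (.node (.node (.leaf ⟨47,[45,47,45,47,45],12,4⟩) (.leaf ⟨44,[47,44,47],10,1⟩)) (.leaf ⟨46,[48,46,48,46,48],18,3⟩))) (.node (.node (.node (.leaf ⟨44,[45,43,45],4,3⟩) (.leaf ⟨43,[46,47,49,43,47,48,45,46,47,48,46,49,47,48],27,3⟩))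 (.leaf ⟨46,[45,46,45],6,2⟩)) (.node (.node (.leaf ⟨44,[48,43,44,48],16,1⟩) (.leaf ⟨47,[46,47,46,47,46],13,2⟩)) (.leaf ⟨47,[48,47,48,47,48],19,3⟩)))) (.node (.node (.node (.node (.leaf ⟨47,[47],9,1⟩) (.leaf ⟨48,[47,45,47,48,43,45,47,45],20,0⟩)) (.leaf ⟨47,[43,44,47,43],11,2⟩)) (.node (.node (.leaf ⟨44,[43,44,43],2,3⟩) (.leaf ⟨45,[46,45,46],6,1⟩)) (.leaf ⟨46,[43,46,43,46,43],7,2⟩))) (.node (.node (.node (.leaf ⟨43,[48,43,48],15,3⟩) (.leaf ⟨46,[48,46,48,46,48],18,5⟩)) (.leaf ⟨46,[43,44,46,43,44,45],8,0⟩)) (.node (.node (.leaf ⟨44,[49,44,49,44,49],23,3⟩) (.leaf ⟨48,[46,48,46,48,46],18,0⟩)) (.leaf ⟨46,[43,46,43,46,43],7,4⟩))))) (.node (.node (.node (.node (.node (.leaf ⟨44,[44],1,1⟩) (.leaf ⟨49,[45,49,45,49,45],24,2⟩)) (.node (.leaf ⟨47,[49,47,49,47,49],25,3⟩) (.leaf ⟨47,[49,47,49,47,49],25,5⟩))) (.node (.node (.leaf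 ⟨43,[44,47,43,47],11,3⟩) (.leaf ⟨49,[43,49,43,49,43],22,2⟩)) (.leaf ⟨49,[43,46,48,46,43,49,46],26,2⟩))) (.node (.node (.node (.leaf ⟨44,[47,44,47],10,3⟩) (.leaf ⟨46,[45,46,45],6,0⟩)) (.leaf ⟨48,[46,48,46,48,46],18,4⟩)) (.node (.node (.leaf ⟨49,[43,49,43,49,43],22,4⟩) (.leaf ⟨48,[43,48,43],15,0⟩)) (.leaf ⟨49,[45,49,45,49,45],24,0⟩)))) (.node (.node (.node (.node (.leaf ⟨48,[48],14,1⟩) (.leaf ⟨48,[45,48,45,48,45],17,0⟩)) (.leaf ⟨48,[46,43,49,46,49,43,46],26,5⟩)) (.node (.node (.leaf ⟨48,[44,48,43,44],16,0⟩) (.leaf ⟨47,[49,47,49,47,49],25,1⟩)) (.leaf ⟨48,[43,44,48,44],16,2⟩))) (.node (.node (.node (.leaf ⟨43,[47,43,44,47],11,1⟩) (.leaf ⟨47,[48,47,48,47,48],19,5⟩)) (.leaf ⟨45,[44,45,43],4,2⟩)) (.node (.node (.leaf ⟨49,[45,49,45,49,45],24,4⟩) (.leaf ⟨45,[47,45,47,45,47],12,5⟩)) (.leaf ⟨46,[43,46,43,46,43],7,0⟩))))))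 (.node (.node (.node (.node (.node (.node (.leaf ⟨43,[43],0,1⟩) (.leaf ⟨46,[48,46,43,49,46,49,43],26,4⟩)) (.node (.leaf ⟨49,[47,49,47,49,47],25,4⟩) (.leaf ⟨47,[45,47,48,43,45,47,45,48],20,1⟩))) (.node (.node (.leaf ⟨47,[46,47,46,47,46],13,4⟩) (.leaf ⟨48,[46,48,46,48,46],18,2⟩)) (.leaf ⟨49,[46,49,43,46,48,46,43],26,0⟩))) (.node (.node (.node (.leaf ⟨43,[45,44,45],4,1⟩) (.leaf ⟨48,[46,49,47,48,43,46,47,49,43,47,48,45,46,47],27,13⟩)) (.leaf ⟨43,[46,43,46,43,46],7,3⟩)) (.node (.node (.leaf ⟨43,[44,46,43,44,45,46],8,1⟩) (.leaf ⟨43,[44,43,44],2,0⟩)) (.leaf ⟨45,[43,45,44],4,0⟩)))) (.node (.node (.node (.node (.leaf ⟨46,[46],5,1⟩) (.leaf ⟨45,[48,47,45,47,48,43,45,47],20,8⟩)) (.leaf ⟨45,[47,45,47,45,47],12,3⟩)) (.node (.node (.leaf ⟨43,[44,48,44,48],16,3⟩) (.leaf ⟨49,[47,48,43,46,47,49,43,47,48,45,46,47,48,46],27,0⟩))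 (.leaf ⟨48,[43,48,43],15,2⟩))) (.node (.node (.node (.leaf ⟨44,[47,43,47,43],11,4⟩) (.leaf ⟨48,[47,48,47,48,47],19,4⟩)) (.leaf ⟨44,[43,44,43],2,1⟩)) (.node (.node (.leaf ⟨43,[49,43,49,43,49],22,3⟩) (.leaf ⟨46,[47,46,47,46,47],13,3⟩)) (.leaf ⟨48,[45,48,45,48,45],17,2⟩))))) (.node (.node (.node (.node (.node (.leaf ⟨45,[45],3,1⟩) (.leaf ⟨48,[43,45,47,45,48,47,45,47],20,4⟩)) (.leaf ⟨47,[44,47,44],10,2⟩)) (.node (.node (.leaf ⟨47,[43,47,43,44],11,0⟩) (.leaf ⟨46,[47,48,46,49,47,48,43,46,47,49,43,47,48,45],27,11⟩)) (.leaf ⟨43,[48,43,48],15,1⟩))) (.node (.node (.node (.leaf ⟨45,[46,45,46],6,3⟩) (.leaf ⟨43,[46,43,46,43,46],7,5⟩)) (.leaf ⟨46,[43,44,45,46,43,44],8,3⟩)) (.node (.node (.leaf ⟨49,[44,49,44,49,44],23,4⟩) (.leaf ⟨47,[45,47,45,47,45],12,2⟩)) (.leaf ⟨49,[44,49,44,49,44],23,2⟩)))) (.node (.node (.node (.node (.leaf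 ⟨43,[44,43,44],2,2⟩) (.leaf ⟨45,[46,47,48,46,49,47,48,43,46,47,49,43,47,48],27,10⟩)) (.leaf ⟨46,[49,43,46,48,46,43,49],26,1⟩)) (.node (.node (.leaf ⟨44,[48,44,48,43],16,4⟩) (.leaf ⟨44,[49,44,49,44,49],23,5⟩)) (.leaf ⟨45,[48,45,48,45,48],17,3⟩))) (.node (.node (.node (.leaf ⟨47,[44,47,44],10,0⟩) (.leaf ⟨47,[48,47,48,47,48],19,1⟩)) (.leaf ⟨45,[48,45,48,45,48],17,5⟩)) (.node (.node (.leaf ⟨45,[49,45,49,45,49],24,3⟩) (.leaf ⟨44,[49,44,49,44,49],23,1⟩)) (.leaf ⟨49,[43,49,43,49,43],22,0⟩)))))))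
noncomputable def tc2 : TCL := ⟨[43,44,45,46,47,48,49], [43,44,45,46,47,48], 100, 28, 0xfff, 12, 0x7f,
  fun a x => look 0xfffffff (nth tc2T 0 a) x, fun x => look 0xfffffff tc2d x, tc2r⟩
noncomputable def tc3T : List ℕ := [0,0,0,0,0,0,0,0,0,0,0,0,0,0,0,0,0,0,0,0,0,0,0,0,0,0,0,0,0,0,0,0,0,0,0,0,0,0,0,0,0,0,0,tc3t43,tc3t44,tc3t45,tc3t46,tc3t47,tc3t48]
noncomputable def tc3r : Tr Rule := (.node (.node (.node (.node (.node (.node (.leaf ⟨48,[48],14,1⟩) (.leaf ⟨46,[45,46,45],6,2⟩)) (.node (.leaf ⟨44,[48,43,44,48],16,1⟩) (.leaf ⟨45,[47,45,47,45,47],12,3⟩))) (.node (.node (.leaf ⟨43,[45,44,45],4,1⟩) (.leaf ⟨47,[43,47,43,44],11,0⟩)) (.leaf ⟨48,[45,48,45,48,45],17,4⟩))) (.node (.node (.node (.leaf ⟨43,[43],0,1⟩) (.leaf ⟨48,[43,45,47,45,48,47,45,47],20,4⟩)) (.leaf ⟨43,[44,43,44],2,0⟩)) (.node (.node (.leaf ⟨47,[45,47,45,47,45],12,4⟩)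 (.leaf ⟨46,[48,46,48,46,48],18,5⟩)) (.leaf ⟨48,[44,48,43,44],16,0⟩)))) (.node (.node (.node (.node (.leaf ⟨46,[46],5,1⟩) (.leaf ⟨47,[45,48,47,45,47,48,43,45],20,7⟩)) (.node (.leaf ⟨43,[44,46,43,44,45,46],8,1⟩) (.leaf ⟨47,[48,43,45,47,45,48,47,45],20,3⟩))) (.node (.node (.leaf ⟨43,[47,43,44,47],11,1⟩) (.leaf ⟨46,[43,44,45,46,43,44],8,3⟩)) (.leaf ⟨48,[43,48,43],15,2⟩))) (.node (.node (.node (.leaf ⟨45,[46,45,46],6,3⟩) (.leaf ⟨43,[44,43,44],2,2⟩)) (.leaf ⟨46,[43,46,43,46,43],7,2⟩)) (.node (.node (.leaf ⟨46,[43,46,43,46,43],7,4⟩) (.leaf ⟨45,[43,45,44],4,0⟩)) (.leaf ⟨47,[48,47,48,47,48],19,3⟩))))) (.node (.node (.node (.node (.node (.leaf ⟨45,[45],3,1⟩) (.leaf ⟨46,[47,46,47,46,47],13,3⟩)) (.node (.leaf ⟨44,[45,46,43,44,46,43],8,5⟩) (.leaf ⟨47,[45,47,48,43,45,47,45,48],20,1⟩))) (.node (.node (.leaf ⟨47,[46,47,46,47,46],13,4⟩)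 (.leaf ⟨45,[48,45,48,45,48],17,3⟩)) (.leaf ⟨48,[46,48,46,48,46],18,4⟩))) (.node (.node (.node (.leaf ⟨44,[44],1,1⟩) (.leaf ⟨43,[46,43,46,43,46],7,3⟩)) (.leaf ⟨44,[43,44,43],2,3⟩)) (.node (.node (.leaf ⟨43,[48,43,48],15,3⟩) (.leaf ⟨44,[43,44,43],2,1⟩)) (.leaf ⟨48,[47,48,47,48,47],19,4⟩)))) (.node (.node (.node (.node (.leaf ⟨47,[47],9,1⟩) (.leaf ⟨45,[47,48,43,45,47,45,48,47],20,2⟩)) (.node (.leaf ⟨45,[44,45,43],4,2⟩) (.leaf ⟨47,[46,47,46,47,46],13,2⟩))) (.node (.node (.leaf ⟨44,[45,43,45],4,3⟩) (.leaf ⟨46,[43,44,46,43,44,45],8,0⟩)) (.leaf ⟨48,[43,44,48,44],16,2⟩))) (.node (.node (.node (.leaf ⟨44,[47,44,47],10,3⟩) (.leaf ⟨44,[47,43,47,43],11,4⟩)) (.leaf ⟨47,[44,47,44],10,2⟩)) (.node (.node (.leaf ⟨44,[48,44,48,43],16,4⟩) (.leaf ⟨48,[45,48,45,48,45],17,2⟩)) (.leaf ⟨46,[48,46,48,46,48],18,3⟩))))))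
noncomputable def tc3 : TCL := ⟨[43,44,45,46,47,48], [43,44,45,46,47], 36, 24, 0x3ff, 10, 0x3f,
  fun a x => look 0xffffff (nth tc3T 0 a) x, fun x => look 0xffffff tc3d x, tc3r⟩
noncomputable def tc4T : List ℕ := [0,0,0,0,0,0,0,0,0,0,0,0,0,0,0,0,0,0,0,0,0,0,0,0,0,0,0,0,0,0,0,0,0,0,0,0,0,0,0,0,0,0,0,tc4t43,tc4t44,tc4t45,tc4t46,tc4t47]
noncomputable def tc4r : Tr Rule := (.node (.node (.node (.node (.node (.leaf ⟨47,[47],9,1⟩) (.leaf ⟨47,[46,47,46,47,46],13,4⟩)) (.leaf ⟨43,[44,47,43,47],11,3⟩)) (.node (.leaf ⟨44,[44],1,1⟩) (.leaf ⟨43,[44,46,43,44,45,46],8,1⟩))) (.node (.node (.node (.leaf ⟨46,[46],5,1⟩) (.leaf ⟨47,[43,44,47,43],11,2⟩)) (.leaf ⟨46,[43,46,43,46,43],7,4⟩)) (.node (.leaf ⟨44,[47,44,47],10,3⟩) (.leaf ⟨46,[43,46,43,46,43],7,2⟩)))) (.node (.node (.node (.node (.leaf ⟨45,[45],3,1⟩) (.leaf ⟨47,[44,47,44],10,2⟩))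 (.leaf ⟨44,[45,43,45],4,3⟩)) (.node (.leaf ⟨45,[46,45,46],6,3⟩) (.leaf ⟨45,[44,45,43],4,2⟩))) (.node (.node (.node (.leaf ⟨43,[43],0,1⟩) (.leaf ⟨47,[43,47,43,44],11,0⟩)) (.leaf ⟨44,[45,46,43,44,46,43],8,5⟩)) (.node (.leaf ⟨43,[45,44,45],4,1⟩) (.leaf ⟨47,[45,47,45,47,45],12,4⟩)))))
noncomputable def tc4 : TCL := ⟨[43,44,45,46,47], [43,44,45,46], 7, 16, 0x7f, 7, 0x1f,
  fun a x => look 0xffff (nth tc4T 0 a) x, fun x => look 0xffff tc4d x, tc4r⟩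
noncomputable def tc5T : List ℕ := [0,0,0,0,0,0,0,0,0,0,0,0,0,0,0,0,0,0,0,0,0,0,0,0,0,0,0,0,0,0,0,0,0,0,0,0,0,0,0,0,0,0,0,tc5t43,tc5t44,tc5t45,tc5t46]
noncomputable def tc5r : Tr Rule := (.node (.node (.node (.leaf ⟨46,[46],5,1⟩) (.leaf ⟨44,[45,46,43,44,46,43],8,5⟩)) (.node (.leaf ⟨45,[46,45,46],6,3⟩) (.leaf ⟨45,[44,45,43],4,2⟩))) (.node (.node (.leaf ⟨43,[43],0,1⟩) (.leaf ⟨44,[44],1,1⟩)) (.leaf ⟨46,[43,46,43,46,43],7,4⟩)))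
noncomputable def tc5 : TCL := ⟨[43,44,45,46], [43,44,45], 3, 16, 0x3f, 6, 0xf,
  fun a x => look 0xffff (nth tc5T 0 a) x, fun x => look 0xffff tc5d x, tc5r⟩
noncomputable def tc6T : List ℕ := [0,0,0,0,0,0,0,0,0,0,0,0,0,0,0,0,0,0,0,0,0,0,0,0,0,0,0,0,0,0,0,0,0,0,0,0,0,0,0,0,0,0,0,tc6t43,tc6t44,tc6t45]
noncomputable def tc6r : Tr Rule := (.node (.node (.leaf ⟨45,[45],3,1⟩) (.leaf ⟨43,[45,44,45],4,1⟩)) (.leaf ⟨44,[45,43,45],4,3⟩))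
noncomputable def tc6 : TCL := ⟨[43,44,45], [43,44], 2, 16, 0x3f, 6, 0x7,
  fun a x => look 0xffff (nth tc6T 0 a) x, fun x => look 0xffff tc6d x, tc6r⟩
noncomputable def tc7T : List ℕ := [0,0,0,0,0,0,0,0,0,0,0,0,0,0,0,0,0,0,0,0,0,0,0,0,0,0,0,0,0,0,0,0,0,0,0,0,0,0,0,0,0,0,0,tc7t43,tc7t44]
noncomputable def tc7r : Tr Rule := (.node (.node (.leaf ⟨43,[43],0,1⟩) (.leaf ⟨43,[44,43,44],2,2⟩)) (.leaf ⟨44,[44],1,1⟩))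
noncomputable def tc7 : TCL := ⟨[43,44], [], 4, 16, 0x7f, 7, 0x7,
  fun a x => look 0xffff (nth tc7T 0 a) x, fun x => look 0xffff tc7d x, tc7r⟩
noncomputable def tc : List TCL := [tc0, tc1, tc2, tc3, tc4, tc5, tc6, tc7]
noncomputable def inW : List (List ℕ) := [[46,48,46,50,49,47,44,49,44,46,47,46,48,44,46,47,46,45,44],
  [44,49,46,48,50,44,43,49,48,46,45,47,46,48,46,47,43,46],
  [49,43,50,43,49],
  [44,49,46,48,50,48,49,44,46,43,49,46,48,47,46,45,48,45,47,46,44,43],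
  [48,47,46,49,45,50,43,49,47,46,45,48,47],
  [43,50,48,50,44,46,47,43,49,44,46,48,43,46,47,43,46,44,43],
  [44,43,49,50,51,45,49,50,43,46,50,48,45,47,44,49,47,44,46,48,45,47,43]]
noncomputable def tcS : List ℕ := [43,44,45,46,47,48,49,50,51]

end Cfsg.Agent.CG.Suz
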