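import Cfsg.Agent.Lib.Grp.Suz.ODefs

set_option autoImplicit false
set_option maxRecDepth 100000
set_option Elab.async false

namespace Cfsg.Agent.CG.Suz

theorem Oc172 : cc0.chk (appT tabs t76 0xffff) 1 1727 = true := by decide +kernel
theorem Oc173 : cc1.chk (appT tabs t76 0xffff) 1 9 = true := by decide +kernel
theorem Oc174 : cc2.chk (appT tabs t76 0xffff) 1 11 = true := by decide +kernel
theorem Oc175 : cc3.chk (appT tabs t76 0xffff) 1 15 = true := by decide +kernel
theorem Oc176 : okcb 1782 16 (bases cc) = true := by decide +kernel
theorem Oc177 : headAll (appT tabs t76 0xffff) cc [] = true := by decide +kernel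
theorem Oc178 : tp0.head tpR = true := by decide +kernel
theorem Oc179 : allL (fun a => tp0.chk a 0 tp0.N) tp0.S = true := by decide +kernel
theorem Oc180 : tp1.head tpR = true := by decide +kernel
theorem Oc181 : allL (fun a => tp1.chk a 0 tp1.N) tp1.S = true := by decide +kernel
theorem Oc182 : tp2.head tpR = true := by decide +kernel
theorem Oc183 : allL (fun a => tp2.chk a 0 tp2.N) tp2.S = true := by decide +kernel
theorem Oc184 : tcLink tp [] [52,53,54,55] = true := by decide +kernel
theorem Oc185 : pc0.chk (appT tabs t76 0xffff) 1 1023 = true := by decide +kernel
theorem Oc186 : pc1.chk (appT tabs t76 0xffff) 1 3 = true := by decide +kernel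
theorem Oc187 : pc2.chk (appT tabs t76 0xffff) 1 1 = true := by decide +kernel
theorem Oc188 : okcb 1782 16 (bases pc) = true := by decide +kernel
theorem Oc189 : headAll (appT tabs t76 0xffff) pc [] = true := by decide +kernel
theorem Oc190 : allL (fun v => eqW (appT tabs t76 0xffff) bs v []) tpR = true := by decide +kernel
theorem Oc191 : trChk (appT tabs t76 0xffff) mc0 [mc1, mc2, mc3, mc4, mc5, mc6, mc7] bs (diagQ pQ) (diagQ pR) pF 0 1782 = true := by decide +kernel
theorem Oc192 : classChk (appT tabs t76 0xffff) bs 12 2 56 [15,15,13,15,21,19,21,27,29,27,32,30,33,30,34,34,34,38,42] pS pF pU = true := by decide +kernel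
theorem Oc193 : powChk (appT tabs t76 0xffff) bs 10 13 aK nK = true := by decide +kernel
theorem Oc194 : en.chk (appT tabs t76 0xffff) tst 0 4203 0 252291601680843104 = true := by decide +kernel
theorem Oc195 : en.chk (appT tabs t76 0xffff) tst 4203 4203 252291601680843104 513471243059473680 = true := by decide +kernel
theorem Oc196 : en.chk (appT tabs t76 0xffff) tst 8406 4203 513471243059473680 792674972845739744 = true := by decide +kernel
theorem Oc197 : en.chk (appT tabs t76 0xffff) tst 12609 4203 792674972845739744 1053858050519097184 = true := by decide +kernel
theorem Oc198 : en.chk (appT tabs t76 0xffff) tst 16812 4203 1053858050519097184 1270126215153343904 = true := by decide +kernel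
theorem Oc199 : en.chk (appT tabs t76 0xffff) tst 21015 4203 1270126215153343904 1517827287727231840 = true := by decide +kernel
theorem Oc200 : en.chk (appT tabs t76 0xffff) tst 25218 4203 1517827287727231840 1787985746202749072 = true := by decide +kernel
theorem Oc201 : en.chk (appT tabs t76 0xffff) tst 29421 4203 1787985746202749072 2062678247575919184 = true := by decide +kernel
theorem Oc202 : en.chk (appT tabs t76 0xffff) tst 33624 4203 2062678247575919184 2341874555800266656 = true := by decide +kernel
theorem Oc203 : en.chk (appT tabs t76 0xffff) tst 37827 4203 2341874555800266656 2612192926140204592 = true := by decide +kernel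
theorem Oc204 : en.chk (appT tabs t76 0xffff) tst 42030 4203 2612192926140204592 2864356640263524624 = true := by decide +kernel
theorem Oc205 : en.chk (appT tabs t76 0xffff) tst 46233 4203 2864356640263524624 3125552567521644512 = true := by decide +kernel
theorem Oc206 : en.chk (appT tabs t76 0xffff) tst 50436 4203 3125552567521644512 3373224641246011840 = true := by decide +kernel
theorem Oc207 : en.chk (appT tabs t76 0xffff) tst 54639 4203 3373224641246011840 3589483116373240128 = true := by decide +kernel
theorem Oc208 : en.chk (appT tabs t76 0xffff) tst 58842 4203 3589483116373240128 3832653443139388960 = true := by decide +kernel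
theorem Oc209 : en.chk (appT tabs t76 0xffff) tst 63045 4203 3832653443139388960 4075819510775418000 = true := by decide +kernel
theorem Oc210 : en.chk (appT tabs t76 0xffff) tst 67248 4203 4075819510775418000 4323497286579543152 = true := by decide +kernel
theorem Oc211 : en.chk (appT tabs t76 0xffff) tst 71451 4203 4323497286579543152 4566662048112468480 = true := by decide +kernel
theorem Oc212 : en.chk (appT tabs t76 0xffff) tst 75654 4203 4566662048112468480 4818960247566659376 = true := by decide +kernel
theorem Oc213 : en.chk (appT tabs t76 0xffff) tst 79857 4203 4818960247566659376 5098153324819004976 = true := by decide +kernel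
theorem Oc214 : en.chk (appT tabs t76 0xffff) tst 84060 4203 5098153324819004976 5323310353779549408 = true := by decide +kernel
theorem Oc215 : en.chk (appT tabs t76 0xffff) tst 88263 4203 5323310353779549408 5584482712139334624 = true := by decide +kernel
theorem Oc216 : en.chk (appT tabs t76 0xffff) tst 92466 4203 5584482712139334624 5859298221431479344 = true := by decide +kernel

end Cfsg.Agent.CG.Suz
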