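import Cfsg.Agent.Lib.Grp.Suz.ODefs

set_option autoImplicit false
set_option maxRecDepth 100000
set_option Elab.async false

namespace Cfsg.Agent.CG.Suz

theorem Oc217 : en.chk (appT tabs t76 0xffff) tst 96669 4203 5859298221431479344 6061878909387934816 = true := by decide +kernel
theorem Oc218 : en.chk (appT tabs t76 0xffff) tst 100872 4203 6061878909387934816 6129499081509199968 = true := by decide +kernel
theorem Oc219 : en.chk (appT tabs t76 0xffff) tst 105075 4203 6129499081509199968 6377176306565540400 = true := by decide +kernel
theorem Oc220 : en.chk (appT tabs t76 0xffff) tst 109278 4203 6377176306565540400 6669886780451335216 = true := by decide +kernel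
theorem Oc221 : en.chk (appT tabs t76 0xffff) tst 113481 4203 6669886780451335216 6971606515200309392 = true := by decide +kernel
theorem Oc222 : en.chk (appT tabs t76 0xffff) tst 117684 4203 6971606515200309392 7201256767592867664 = true := by decide +kernel
theorem Oc223 : en.chk (appT tabs t76 0xffff) tst 121887 4203 7201256767592867664 7458054442723575232 = true := by decide +kernel
theorem Oc224 : en.chk (appT tabs t76 0xffff) tst 126090 4203 7458054442723575232 7710229701745206256 = true := by decide +kernel
theorem Oc225 : en.chk (appT tabs t76 0xffff) tst 130293 4203 7710229701745206256 7984929555808796608 = true := by decide +kernel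
theorem Oc226 : en.chk (appT tabs t76 0xffff) tst 134496 639 7984929555808796608 8021032915066422449 = true := by decide +kernel
theorem Oc227 : commAll (appT tabs t76 0xffff) bs 12 cc = true := by decide +kernel
theorem Oc228 : relChk (appT tabs t76 0xffff) bs 10 12 rT = true := by decide +kernel
theorem Oc229 : eqW (appT tabs t76 0xffff) bs (substW img [43,43]) [] = true := by decide +kernel
theorem Oc230 : eqW (appT tabs t76 0xffff) bs (substW img [44,44]) [] = true := by decide +kernel
theorem Oc231 : eqW (appT tabs t76 0xffff) bs (substW img [43,44,43,44]) [] = true := by decide +kernel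
theorem Oc232 : eqW (appT tabs t76 0xffff) bs (substW img [45,45]) [] = true := by decide +kernel
theorem Oc233 : eqW (appT tabs t76 0xffff) bs (substW img [45,43,45,44]) [] = true := by decide +kernel
theorem Oc234 : eqW (appT tabs t76 0xffff) bs (substW img [46,46]) [] = true := by decide +kernel
theorem Oc235 : eqW (appT tabs t76 0xffff) bs (substW img [46,45,46,45]) [] = true := by decide +kernel
theorem Oc236 : eqW (appT tabs t76 0xffff) bs (substW img [46,43,46,43,46,43]) [] = true := by decide +kernel
theorem Oc237 : eqW (appT tabs t76 0xffff) bs (substW img [46,43,44,46,43,44,45]) [] = true := by decide +kernel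
theorem Oc238 : eqW (appT tabs t76 0xffff) bs (substW img [47,47]) [] = true := by decide +kernel
theorem Oc239 : eqW (appT tabs t76 0xffff) bs (substW img [47,44,47,44]) [] = true := by decide +kernel
theorem Oc240 : eqW (appT tabs t76 0xffff) bs (substW img [47,43,47,43,44]) [] = true := by decide +kernel
theorem Oc241 : eqW (appT tabs t76 0xffff) bs (substW img [47,45,47,45,47,45]) [] = true := by decide +kernel
theorem Oc242 : eqW (appT tabs t76 0xffff) bs (substW img [47,46,47,46,47,46]) [] = true := by decide +kernel
theorem Oc243 : eqW (appT tabs t76 0xffff) bs (substW img [48,48]) [] = true := by decide +kernel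
theorem Oc244 : eqW (appT tabs t76 0xffff) bs (substW img [48,43,48,43]) [] = true := by decide +kernel
theorem Oc245 : eqW (appT tabs t76 0xffff) bs (substW img [48,44,48,43,44]) [] = true := by decide +kernel
theorem Oc246 : eqW (appT tabs t76 0xffff) bs (substW img [48,45,48,45,48,45]) [] = true := by decide +kernel
theorem Oc247 : eqW (appT tabs t76 0xffff) bs (substW img [48,46,48,46,48,46]) [] = true := by decide +kernel
theorem Oc248 : eqW (appT tabs t76 0xffff) bs (substW img [48,47,48,47,48,47]) [] = true := by decide +kernel
theorem Oc249 : eqW (appT tabs t76 0xffff) bs (substW img [48,47,45,47,48,43,45,47,45]) [] = true := by decide +kernel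
theorem Oc250 : eqW (appT tabs t76 0xffff) bs (substW img [49,49]) [] = true := by decide +kernel
theorem Oc251 : eqW (appT tabs t76 0xffff) bs (substW img [49,43,49,43,49,43]) [] = true := by decide +kernel
theorem Oc252 : eqW (appT tabs t76 0xffff) bs (substW img [49,44,49,44,49,44]) [] = true := by decide +kernel
theorem Oc253 : eqW (appT tabs t76 0xffff) bs (substW img [49,45,49,45,49,45]) [] = true := by decide +kernel
theorem Oc254 : eqW (appT tabs t76 0xffff) bs (substW img [49,47,49,47,49,47]) [] = true := by decide +kernel
theorem Oc255 : eqW (appT tabs t76 0xffff) bs (substW img [49,46,49,43,46,48,46,43]) [] = true := by decide +kernel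
theorem Oc256 : eqW (appT tabs t76 0xffff) bs (substW img [49,47,48,43,46,47,49,43,47,48,45,46,47,48,46]) [] = true := by decide +kernel
theorem Oc257 : eqW (appT tabs t76 0xffff) bs (substW img [50,50]) [] = true := by decide +kernel
theorem Oc258 : eqW (appT tabs t76 0xffff) bs (substW img [50,44,50,44]) [] = true := by decide +kernel
theorem Oc259 : eqW (appT tabs t76 0xffff) bs (substW img [50,47,50,47]) [] = true := by decide +kernel
theorem Oc260 : eqW (appT tabs t76 0xffff) bs (substW img [50,46,50,46,50,46]) [] = true := by decide +kernel
theorem Oc261 : eqW (appT tabs t76 0xffff) bs (substW img [50,49,50,49,50,49]) [] = true := by decide +kernel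
theorem Oc262 : eqW (appT tabs t76 0xffff) bs (substW img [48,49,48,49,48,49]) [] = true := by decide +kernel
theorem Oc263 : eqW (appT tabs t76 0xffff) bs (substW img [50,43,50,43,50,43,50,43]) [] = true := by decide +kernel
theorem Oc264 : eqW (appT tabs t76 0xffff) bs (substW img [50,48,45,48,43,50,43,45,48,45]) [] = true := by decide +kernel
theorem Oc265 : eqW (appT tabs t76 0xffff) bs (substW img [50,49,44,47,49,50,44,47,49,44,47,49]) [] = true := by decide +kernel
theorem Oc266 : eqW (appT tabs t76 0xffff) bs (substW img [46,50,46,44,47,46,50,47,44,46,44,47]) [] = true := by decide +kernel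
theorem Oc267 : eqW (appT tabs t76 0xffff) bs (substW img [50,43,50,48,46,47,45,50,44,45,47,46,43,48]) [] = true := by decide +kernel
theorem Oc268 : eqW (appT tabs t76 0xffff) bs (substW img [50,43,50,46,44,47,46,43,50,45,46,43,47,46,43]) [] = true := by decide +kernel
theorem Oc269 : eqW (appT tabs t76 0xffff) bs (substW img [50,43,48,50,48,49,45,50,46,47,45,46,48,46,49,43]) [] = true := by decide +kernel
theorem Oc270 : eqW (appT tabs t76 0xffff) bs (substW img [50,45,49,45,48,49,46,50,43,48,46,43,49,43,45,49]) [] = true := by decide +kernel
theorem Oc271 : eqW (appT tabs t76 0xffff) bs (substW img [48,44,50,48,50,43,48,50,48,50,48,43,50]) [] = true := by decide +kernel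
theorem Oc272 : eqW (appT tabs t76 0xffff) bs (substW img [50,43,50,49,44,47,49,43,50,43,44,49,44,47,49,43]) [] = true := by decide +kernel
theorem Oc273 : eqW (appT tabs t76 0xffff) bs (substW img [51,51]) [] = true := by decide +kernel
theorem Oc274 : eqW (appT tabs t76 0xffff) bs (substW img [51,46,51,46,51,46]) [] = true := by decide +kernel
theorem Oc275 : eqW (appT tabs t76 0xffff) bs (substW img [51,49,51,49,51,49]) [] = true := by decide +kernel
theorem Oc276 : eqW (appT tabs t76 0xffff) bs (substW img [51,43,51,43,51,43,51,43]) [] = true := by decide +kernel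
theorem Oc277 : eqW (appT tabs t76 0xffff) bs (substW img [51,43,51,48,51,43,51,48]) [] = true := by decide +kernel
theorem Oc278 : eqW (appT tabs t76 0xffff) bs (substW img [51,48,51,44,51,43,51,43,44]) [] = true := by decide +kernel
theorem Oc279 : eqW (appT tabs t76 0xffff) bs (substW img [51,48,51,46,51,45,51,46,48]) [] = true := by decide +kernel
theorem Oc280 : eqW (appT tabs t76 0xffff) bs (substW img [51,43,44,51,46,51,43,51,43,48,46]) [] = true := by decide +kernel
theorem Oc281 : eqW (appT tabs t76 0xffff) bs (substW img [51,43,44,51,49,51,43,51,43,48,49]) [] = true := by decide +kernel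
theorem Oc282 : eqW (appT tabs t76 0xffff) bs (substW img [51,43,47,48,51,47,43,51,46,43,48,46,44,47]) [] = true := by decide +kernel
theorem Oc283 : eqW (appT tabs t76 0xffff) bs (substW img [51,47,51,44,49,46,51,45,47,46,44,49,45,47,49,43]) [] = true := by decide +kernel
theorem Oc284 : eqW (appT tabs t76 0xffff) bs (substW img [51,46,44,47,51,45,46,43,47,48,46,43,47,45,49,43,45,49]) [] = true := by decide +kernel
theorem Oc285 : eqW (appT tabs t76 0xffff) bs (substW img [49,46,49,48,44,46,48,45,44,48,45]) [] = true := by decide +kernel
theorem Oc286 : eqW (appT tabs t76 0xffff) bs (substW img [51,48,46,49,43,47,49,51,48,46,49,43,47,49]) [] = true := by decide +kernel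
theorem Oc287 : eqW (appT tabs t76 0xffff) bs (substW img [44,50,51,50,46,49,50,44,49,46,50,51,46,50,44,46]) [] = true := by decide +kernel
theorem Oc288 : eqW (appT tabs t76 0xffff) bs (substW img [43,47,51,45,51,49,51,45,51,47,43,51]) [] = true := by decide +kernel
theorem Oc289 : eqW (appT tabs t76 0xffff) bs (substW img [50,43,45,49,45,50,51,50,46,49,46,50,46,51]) [] = true := by decide +kernel
theorem Oc290 : trChk (appT tabs t76 0xffff) mc0 [mc1, mc2, mc3, mc4, mc5, mc6, mc7] bs (pairQ 10 12 73 75 nQ) (pairQ 10 12 73 75 [[0], [1]]) [] 0 1252 = true := by decide +kernel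
theorem Oc291 : trChk (appT tabs t76 0xffff) mc0 [mc1, mc2, mc3, mc4, mc5, mc6, mc7] bs (pairQ 10 12 73 75 nQ) (pairQ 10 12 73 75 [[0], [1]]) [] 1252 530 = true := by decide +kernel

end Cfsg.Agent.CG.Suz
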