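import Cfsg.Agent.Lib.Grp.Suz.OC0
import Cfsg.Agent.Lib.Grp.Suz.OC1
import Cfsg.Agent.Lib.Grp.Suz.Main

set_option autoImplicit false
set_option maxRecDepth 100000
set_option Elab.async false

namespace Cfsg.Agent.CG.Suz

theorem chainC : ChainOK act cc [] :=
  chainOK_of_chk act cc [] (by simp) (okc_of_okcb Oc176) Oc177
  (allL_cons Oc172 (allL_cons Oc173 (allL_cons Oc174 (allL_cons Oc175 (allL_nil _)))))

theorem chainP : ChainOK act pc [] :=
  chainOK_of_chk act pc [] (by simp) (okc_of_okcb Oc188) Oc189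
  (allL_cons Oc185 (allL_cons Oc186 (allL_cons Oc187 (allL_nil _))))

theorem boundsP : Bounds tpR pS (2 ^ 13) :=
  (show prodTC tp = 2 ^ 13 by decide +kernel) ▸ bounds_of_chain Oc184
  (allL_cons Oc178 (allL_cons Oc180 (allL_cons Oc182 (allL_nil _))))
  (allL_cons Oc179 (allL_cons Oc181 (allL_cons Oc183 (allL_nil _))))

theorem cardP : Nat.card (cl act.gen pS) = 2 ^ 13 :=
  card_cl_eq chainP (by decide +kernel) boundsP (base.rels Oc190) (by decide +kernel)

theorem centP : ∀ g ∈ Subgroup.centralizer (cl act.gen pS : Set PG), ∃ φ ∈ pF, g = ev act.gen φ :=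
  centralizer_subset (l := mc0) (L := [mc1, mc2, mc3, mc4, mc5, mc6, mc7]) chain card_le base (Q := pQ) (Rf := pR) (by decide +kernel) (by decide +kernel) (by decide +kernel)
    Oc191

theorem autT (φ : MulAut PG) : ∃ g : PG, φ (act.gen 12) = g * act.gen 12 * g⁻¹ :=
  aut_class base (r := 2) (by norm_num) cardP (not_dvd_of_eq card (by decide +kernel)) centP
    Oc192 φ

theorem autA (φ : MulAut PG) : ∃ g : PG, ∃ a' ∈ aK, g * φ (act.gen 10) * g⁻¹ = act.gen a' :=
  aut_pow base (p := 13) (by norm_num) (not_dvd_of_eq card (by decide +kernel))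
    Oc193 φ

theorem enumOK : en.OK app tst 0 135135 0 8021032915066422449 :=
  (Enum.OK.append (Enum.OK.append (Enum.OK.append (Enum.OK.append (Enum.OK.append (Enum.OK.append (Enum.OK.append (Enum.OK.append (Enum.OK.append (Enum.OK.append (Enum.OK.append (Enum.OK.append (Enum.OK.append (Enum.OK.append (Enum.OK.append (Enum.OK.append (Enum.OK.append (Enum.OK.append (Enum.OK.append (Enum.OK.append (Enum.OK.append (Enum.OK.append (Enum.OK.append (Enum.OK.append (Enum.OK.append (Enum.OK.append (Enum.OK.append (Enum.OK.append (Enum.OK.append (Enum.OK.append (Enum.OK.append (Enum.OK.append (Enum.ok_of_chk Oc194)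
  (Enum.ok_of_chk Oc195))
  (Enum.ok_of_chk Oc196))
  (Enum.ok_of_chk Oc197))
  (Enum.ok_of_chk Oc198))
  (Enum.ok_of_chk Oc199))
  (Enum.ok_of_chk Oc200))
  (Enum.ok_of_chk Oc201))
  (Enum.ok_of_chk Oc202))
  (Enum.ok_of_chk Oc203))
  (Enum.ok_of_chk Oc204))
  (Enum.ok_of_chk Oc205))
  (Enum.ok_of_chk Oc206))
  (Enum.ok_of_chk Oc207))
  (Enum.ok_of_chk Oc208))
  (Enum.ok_of_chk Oc209))
  (Enum.ok_of_chk Oc210))
  (Enum.ok_of_chk Oc211))
  (Enum.ok_of_chk Oc212))
  (Enum.ok_of_chk Oc213))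
  (Enum.ok_of_chk Oc214))
  (Enum.ok_of_chk Oc215))
  (Enum.ok_of_chk Oc216))
  (Enum.ok_of_chk Oc217))
  (Enum.ok_of_chk Oc218))
  (Enum.ok_of_chk Oc219))
  (Enum.ok_of_chk Oc220))
  (Enum.ok_of_chk Oc221))
  (Enum.ok_of_chk Oc222))
  (Enum.ok_of_chk Oc223))
  (Enum.ok_of_chk Oc224))
  (Enum.ok_of_chk Oc225))
  (Enum.ok_of_chk Oc226))

theorem cent_le : prodN cc ≤ Nat.card (Subgroup.centralizer {act.gen 12}) :=
  le_card_centralizer base chainC Oc227

theorem classAll (g : PG) : ∃ f, act.Rep (g * act.gen 12 * g⁻¹) f ∧ tst f = true :=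
  Enum.OK.all (A := act) (E := en) enumOK hinv (okc_of_okcb (n := 1782) (w := 16) (by decide +kernel)) cent_le
    (card ▸ (ble_iff _ _).1 (by decide +kernel)) g

theorem autPair (φ : MulAut PG) : ∃ s ∈ [(10, 12), (73, 75)], ∃ g : PG, φ (act.gen 10) = g * act.gen s.1 * g⁻¹ ∧ φ (act.gen 12) = g * act.gen s.2 * g⁻¹ :=
  aut_pair base Oc228 (okc_of_okcb (n := 1782) (w := 16) (by decide +kernel)) autA autT classAll φ

theorem sigma : ∃ σ : MulAut PG, σ (act.gen 10) = act.gen 73 ∧ σ (act.gen 12) = act.gen 75 :=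
  exists_aut' base bounds rels clS card.ge (img := img)
    (allL_cons Oc229 (allL_cons Oc230 (allL_cons Oc231 (allL_cons Oc232 (allL_cons Oc233 (allL_cons Oc234 (allL_cons Oc235 (allL_cons Oc236 (allL_cons Oc237 (allL_cons Oc238 (allL_cons Oc239 (allL_cons Oc240 (allL_cons Oc241 (allL_cons Oc242 (allL_cons Oc243 (allL_cons Oc244 (allL_cons Oc245 (allL_cons Oc246 (allL_cons Oc247 (allL_cons Oc248 (allL_cons Oc249 (allL_cons Oc250 (allL_cons Oc251 (allL_cons Oc252 (allL_cons Oc253 (allL_cons Oc254 (allL_cons Oc255 (allL_cons Oc256 (allL_cons Oc257 (allL_cons Oc258 (allL_cons Oc259 (allL_cons Oc260 (allL_cons Oc261 (allL_cons Oc262 (allL_cons Oc263 (allL_cons Oc264 (allL_cons Oc265 (allL_cons Oc266 (allL_cons Oc267 (allL_cons Oc268 (allL_cons Oc269 (allL_cons Oc270 (allL_cons Oc271 (allL_cons Oc272 (allL_cons Oc273 (allL_cons Oc274 (allL_cons Oc275 (allL_cons Oc276 (allL_cons Oc277 (allL_cons Oc278 (allL_cons Oc279 (allL_cons Oc280 (allL_cons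 Oc281 (allL_cons Oc282 (allL_cons Oc283 (allL_cons Oc284 (allL_cons Oc285 (allL_cons Oc286 (allL_cons Oc287 (allL_cons Oc288 (allL_cons Oc289 (allL_nil _))))))))))))))))))))))))))))))))))))))))))))))))))))))))))))))
    clAT (va := [43,50,48,49,43,50,48,47,43,49,44,46,47,46,48,46,45,47]) (vt := [50,48,43,50,51,50,48,43,50]) (wa := [50,48,50,43,50,46,47,49,43,46,47,48,45,47,45,44,43]) (wt := [48,44,49,44,51,47,45,49,47,46,48,44,46,47,46,44]) (by decide +kernel) (by decide +kernel)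

theorem card_out : Nat.card (Out PG) = 2 := by
  obtain ⟨σ, h1, h2⟩ := sigma
  exact card_out_eq_two clAT σ h1 h2 (not_conj_pair (l := mc0) (L := [mc1, mc2, mc3, mc4, mc5, mc6, mc7]) chain card_le base (Q := nQ) (Rf := [[0], [1]]) (by decide +kernel)
    (show trChk (appT tabs t76 0xffff) mc0 [mc1, mc2, mc3, mc4, mc5, mc6, mc7] bs (pairQ 10 12 73 75 nQ) (pairQ 10 12 73 75 [[0], [1]]) [] 0 1782 = true from (trChk_append Oc290 Oc291))) autPair

end Cfsg.Agent.CG.Suz
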